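import Groth.Agent.GlueTor.Equiv

/-! An isomorphism of affine group schemes over a big field descends to an algebraically closed subfield. -/

set_option autoImplicit false
set_option linter.style.haveILetI false
set_option backward.isDefEq.respectTransparency false

universe u

open CategoryTheory CategoryTheory.Limits AlgebraicGeometry MonoidalCategory CartesianMonoidalCategory TensorProduct
open scoped MonObj

noncomputable section

namespace Groth.Agent.GrpPtDesc

open GlueTor (zOf lift_zOf zOf_id zOf_map)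
open CartesianMonoidalCategory (lift)
open GSGlue (Sp spMap spMap_comp exists_spMap spMap_injective prodIso prodIso_natural)

variable {S S' : Scheme.{u}} (v : S' ⟶ S) {X Y H : Over S}

theorem whiskerRight_zOf (m : X ⟶ Y) (e : Red.bc v Y ⟶ Red.bc v H) :
    (m ▷ Over.mk v) ≫ zOf v e = zOf v ((Over.pullback v).map m ≫ e) := by
  refine Over.OverMorphism.ext ?_
  have hw : (m ▷ Over.mk v).left = ((Over.pullback v).map m).left := by
    apply pullback.hom_ext
    · exact (Over.whiskerRight_left_fst _).trans (ActBC.pullback_map_left_fst v m).symm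
    · exact (Over.whiskerRight_left_snd _).trans (Over.w ((Over.pullback v).map m)).symm
  rw [Over.comp_left, GlueTor.zOf_left, GlueTor.zOf_left, Over.comp_left, Category.assoc, hw]

theorem zOf_mul [GrpObj H] (p q : Red.bc v X ⟶ Red.bc v H) : zOf v (p * q) = zOf v p * zOf v q := by
  let he := (Over.mapPullbackAdj v).homEquiv (Red.bc v X) H
  let j : X ⊗ Over.mk v ⟶ (Over.map v).obj (Red.bc v X) :=
    Over.homMk (𝟙 (pullback X.hom v)) (by
      show 𝟙 _ ≫ pullback.snd X.hom v ≫ v = pullback.fst X.hom v ≫ X.hom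
      rw [Category.id_comp, pullback.condition])
  have hz : ∀ r : Red.bc v X ⟶ Red.bc v H, zOf v r = j ≫ he.symm r := fun r => by
    refine Over.OverMorphism.ext ?_
    show r.left ≫ pullback.fst H.hom v = 𝟙 _ ≫ _
    rw [Category.id_comp]
    simp [he, Adjunction.homEquiv_counit]
  have hmul : he.symm (p * q) = he.symm p * he.symm q := by
    rw [Equiv.symm_apply_eq, AlgGrp.Action.homEquiv_mul]
    simp [he]
  rw [hz, hz, hz, hmul, MonObj.comp_mul]

theorem zOf_mulHom {G : Over S} [GrpObj G] [GrpObj H] (e : Red.bc v G ⟶ Red.bc v H) [IsMonHom e] :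
    ((μ[G] : G ⊗ G ⟶ G) ▷ Over.mk v) ≫ zOf v e =
      ((fst G G ▷ Over.mk v) ≫ zOf v e) * ((snd G G ▷ Over.mk v) ≫ zOf v e) := by
  rw [whiskerRight_zOf, whiskerRight_zOf, whiskerRight_zOf, ← zOf_mul]
  congr 1
  have hμ : (μ[G] : G ⊗ G ⟶ G) = fst G G * snd G G := by
    rw [Hom.mul_def, lift_fst_snd, Category.id_comp]
  rw [hμ, Functor.map_mul]
  exact MonObj.mul_comp ..

section field

variable {k : Type u} [Field k] {K : Type u} [CommRing K] [Algebra k K]

/-- An affine object as a spectrum. -/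
theorem exists_iso_sp (T : Over (Spec (CommRingCat.of k))) [IsAffine T.left] :
    ∃ (A : Type u) (_ : CommRing A) (_ : Algebra k A), Nonempty (T ≅ Sp k A) ∧
      (LocallyOfFiniteType T.hom → Algebra.FiniteType k A) := by
  let ψ := Spec.preimage (T.left.isoSpec.inv ≫ T.hom)
  letI : Algebra k Γ(T.left, ⊤) := ψ.hom.toAlgebra
  have hψ : Spec.map ψ = T.left.isoSpec.inv ≫ T.hom := Spec.map_preimage _
  refine ⟨Γ(T.left, ⊤), inferInstance, inferInstance, ⟨Over.isoMk T.left.isoSpec (by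
    show T.left.isoSpec.hom ≫ Spec.map ψ = T.hom
    rw [hψ, Iso.hom_inv_id_assoc])⟩, fun h => ?_⟩
  have : LocallyOfFiniteType (Spec.map ψ) := by rw [hψ]; infer_instance
  exact (HasRingHomProperty.Spec_iff (P := @LocallyOfFiniteType)).mp this

theorem ext_of_injective {R : Type u} [CommRing R] [Algebra k R] (f : R →ₐ[k] K) (hf : Function.Injective f)
    {T Y : Over (Spec (CommRingCat.of k))} [IsAffine T.left] [IsAffine Y.left] {z z' : T ⊗ Sp k R ⟶ Y}
    (h : (T ◁ spMap f) ≫ z = (T ◁ spMap f) ≫ z') : z = z' := by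
  obtain ⟨A, _, _, ⟨e⟩, -⟩ := exists_iso_sp T
  obtain ⟨B, _, _, ⟨d⟩, -⟩ := exists_iso_sp Y
  obtain ⟨g, hg⟩ := exists_spMap ((prodIso A R).inv ≫ (e.inv ▷ Sp k R) ≫ z ≫ d.hom)
  obtain ⟨g', hg'⟩ := exists_spMap ((prodIso A R).inv ≫ (e.inv ▷ Sp k R) ≫ z' ≫ d.hom)
  have h1 : (Algebra.TensorProduct.map (AlgHom.id k A) f).comp g = (Algebra.TensorProduct.map (AlgHom.id k A) f).comp g' :=
    spMap_injective (by
      rw [spMap_comp, spMap_comp, hg, hg', GSGlue.prodIso_natural_assoc, GSGlue.prodIso_natural_assoc,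
        whisker_exchange_assoc, whisker_exchange_assoc, reassoc_of% h])
  have hinj : Function.Injective (Algebra.TensorProduct.map (AlgHom.id k A) f) :=
    Module.Flat.lTensor_preserves_injective_linearMap (M := A) f.toLinearMap hf
  have : g = g' := AlgHom.ext fun x => hinj (DFunLike.congr_fun h1 x)
  rw [this, hg'] at hg
  rw [← cancel_mono d.hom, ← cancel_epi (e.inv ▷ Sp k R), ← cancel_epi (prodIso A R).inv, hg]

theorem exists_subalgebra {A : Type u} [CommRing A] [Algebra k A] (s : Finset (A ⊗[k] K)) :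
    ∃ R : Subalgebra k K, R.FG ∧ ∀ R' : Subalgebra k K, R ≤ R' →
      ∀ x ∈ s, x ∈ (Algebra.TensorProduct.map (AlgHom.id k A) R'.val).range := by
  classical
  induction s using Finset.induction_on with
  | empty => exact ⟨⊥, Subalgebra.fg_bot, fun _ _ x hx => absurd hx (Finset.notMem_empty x)⟩
  | @insert a s ha ih =>
    obtain ⟨R, hR, hs⟩ := ih
    have ha' : ∃ R₀ : Subalgebra k K, R₀.FG ∧ ∀ R' : Subalgebra k K, R₀ ≤ R' →
        a ∈ (Algebra.TensorProduct.map (AlgHom.id k A) R'.val).range := by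
      clear ha
      induction a using TensorProduct.induction_on with
      | zero => exact ⟨⊥, Subalgebra.fg_bot, fun _ _ => zero_mem _⟩
      | tmul x c =>
        exact ⟨Algebra.adjoin k {c}, ⟨{c}, by simp⟩, fun R' hR' =>
          ⟨x ⊗ₜ ⟨c, hR' (Algebra.self_mem_adjoin_singleton k c)⟩, rfl⟩⟩
      | add x y hx hy =>
        obtain ⟨R₁, h1, h1'⟩ := hx
        obtain ⟨R₂, h2, h2'⟩ := hy
        exact ⟨R₁ ⊔ R₂, h1.sup h2, fun R' hR' => add_mem (h1' R' (le_sup_left.trans hR')) (h2' R' (le_sup_right.trans hR'))⟩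
    obtain ⟨R₀, h0, h0'⟩ := ha'
    refine ⟨R₀ ⊔ R, h0.sup hR, fun R' hR' x hx => ?_⟩
    rcases Finset.mem_insert.mp hx with rfl | hx
    · exact h0' R' (le_sup_left.trans hR')
    · exact hs R' (le_sup_right.trans hR') x hx

theorem exists_factor {T Y : Over (Spec (CommRingCat.of k))} [IsAffine T.left] [IsAffine Y.left]
    [LocallyOfFiniteType Y.hom] (z : T ⊗ Sp k K ⟶ Y) :
    ∃ R : Subalgebra k K, R.FG ∧ ∀ R' : Subalgebra k K, R ≤ R' →
      ∃ z' : T ⊗ Sp k R' ⟶ Y, (T ◁ spMap R'.val) ≫ z' = z := by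
  classical
  obtain ⟨A, _, _, ⟨e⟩, -⟩ := exists_iso_sp T
  obtain ⟨B, _, _, ⟨d⟩, hB⟩ := exists_iso_sp Y
  obtain ⟨s, hs⟩ := (hB inferInstance).out
  obtain ⟨g, hg⟩ := exists_spMap ((prodIso A K).inv ≫ (e.inv ▷ Sp k K) ≫ z ≫ d.hom)
  obtain ⟨R, hR, hr⟩ := exists_subalgebra (s.image g)
  refine ⟨R, hR, fun R' hR' => ?_⟩
  let i := Algebra.TensorProduct.map (AlgHom.id k A) R'.val
  have hinj : Function.Injective i :=
    Module.Flat.lTensor_preserves_injective_linearMap (M := A) R'.val.toLinearMap Subtype.val_injective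
  have hrange : ∀ b, g b ∈ i.range := by
    have : Algebra.adjoin k (s : Set B) ≤ i.range.comap g := by
      rw [Algebra.adjoin_le_iff]
      exact fun b hb => hr R' hR' _ (Finset.mem_image_of_mem g hb)
    intro b
    exact this (by rw [hs]; trivial)
  let g' : B →ₐ[k] A ⊗[k] R' := (AlgEquiv.ofInjective i hinj).symm.toAlgHom.comp (g.codRestrict i.range hrange)
  have hg' : i.comp g' = g := AlgHom.ext fun b => by
    have := (AlgEquiv.ofInjective i hinj).apply_symm_apply (g.codRestrict i.range hrange b)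
    exact congrArg Subtype.val this
  refine ⟨(e.hom ▷ Sp k R') ≫ (prodIso A R').hom ≫ spMap g' ≫ d.inv, ?_⟩
  rw [whisker_exchange_assoc, ← cancel_mono d.hom, ← cancel_epi (e.inv ▷ Sp k K), ← cancel_epi (prodIso A K).inv]
  simp only [Category.assoc, Iso.inv_hom_id, Category.comp_id]
  rw [← hg, ← comp_whiskerRight_assoc, Iso.inv_hom_id, id_whiskerRight, Category.id_comp,
    ← GSGlue.prodIso_natural_assoc, Iso.inv_hom_id_assoc, ← spMap_comp, hg']

theorem exists_point [IsAlgClosed k] (R : Subalgebra k K) (hR : R.FG) [Nontrivial K] :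
    Nonempty (R →ₐ[k] k) := by
  haveI : Algebra.FiniteType k R := ⟨(Subalgebra.fg_top R).mpr hR⟩
  obtain ⟨m, hm⟩ := Ideal.exists_maximal R
  letI := Ideal.Quotient.field m
  haveI : Algebra.FiniteType k (R ⧸ m) := .of_surjective (Ideal.Quotient.mkₐ k m) Ideal.Quotient.mk_surjective
  haveI := finite_of_finite_type_of_isJacobsonRing k (R ⧸ m)
  haveI : Algebra.IsIntegral k (R ⧸ m) := Algebra.IsIntegral.of_finite k (R ⧸ m)
  let e : k ≃ₐ[k] R ⧸ m := AlgEquiv.ofBijective (Algebra.ofId k _) IsAlgClosed.algebraMap_bijective_of_isIntegral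
  exact ⟨e.symm.toAlgHom.comp (Ideal.Quotient.mkₐ k m)⟩

/-- Isomorphic after a field extension, hence isomorphic. -/
theorem exists_iso [IsAlgClosed k] [Nontrivial K] (G H : Over (Spec (CommRingCat.of k))) [GrpObj G] [GrpObj H]
    [IsAffine G.left] [IsAffine H.left] [LocallyOfFiniteType G.hom] [LocallyOfFiniteType H.hom]
    (e : Red.bc (Spec.map (CommRingCat.ofHom (algebraMap k K))) G ≅
      Red.bc (Spec.map (CommRingCat.ofHom (algebraMap k K))) H) [IsMonHom e.hom] :
    Nonempty (Grp.mk G ≅ Grp.mk H) := by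
  let u := Spec.map (CommRingCat.ofHom (algebraMap k K))
  obtain ⟨R₁, hR₁, h1⟩ := exists_factor (T := G) (Y := H) (K := K) (zOf u e.hom)
  obtain ⟨R₂, hR₂, h2⟩ := exists_factor (T := H) (Y := G) (K := K) (zOf u e.inv)
  let R := R₁ ⊔ R₂
  obtain ⟨Φ, hΦ⟩ := h1 R le_sup_left
  obtain ⟨Ψ, hΨ⟩ := h2 R le_sup_right
  obtain ⟨π⟩ := exists_point R (hR₁.sup hR₂)
  have inv_id : ∀ {X Y : Over (Spec (CommRingCat.of k))} [IsAffine X.left] (a : Red.bc u X ⟶ Red.bc u Y)
      (b : Red.bc u Y ⟶ Red.bc u X) (a' : X ⊗ Sp k R ⟶ Y) (b' : Y ⊗ Sp k R ⟶ X),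
      (X ◁ spMap R.val) ≫ a' = zOf u a → (Y ◁ spMap R.val) ≫ b' = zOf u b → a ≫ b = 𝟙 _ →
      lift a' (snd X (Sp k R)) ≫ b' = fst X (Sp k R) := by
    intro X Y _ a b a' b' ha hb hab
    refine ext_of_injective R.val Subtype.val_injective ?_
    rw [whiskerLeft_fst, ← zOf_id u, ← hab, ← lift_zOf, ← hb, ← ha, ← Category.assoc (CartesianMonoidalCategory.lift _ _),
      lift_whiskerLeft, ← Category.assoc, comp_lift, whiskerLeft_snd]
  haveI : IsAffine (G ⊗ G).left := inferInstanceAs (IsAffine (pullback G.hom G.hom))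
  have hmul : ((μ[G] : G ⊗ G ⟶ G) ▷ Sp k R) ≫ Φ = ((fst G G ▷ _) ≫ Φ) * ((snd G G ▷ _) ≫ Φ) := by
    refine ext_of_injective R.val Subtype.val_injective ?_
    rw [MonObj.comp_mul, whisker_exchange_assoc, whisker_exchange_assoc, whisker_exchange_assoc, hΦ]
    exact zOf_mulHom u e.hom
  let p : 𝟙_ (Over (Spec (CommRingCat.of k))) ⟶ Sp k R :=
    Over.homMk (Spec.map (CommRingCat.ofHom π.toRingHom)) (by
      show Spec.map _ ≫ Spec.map _ = 𝟙 _
      rw [← Spec.map_comp, ← CommRingCat.ofHom_comp, ← Spec.map_id]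
      congr 2
      exact RingHom.ext fun x => π.commutes x)
  let sec (T : Over (Spec (CommRingCat.of k))) : T ⟶ T ⊗ Sp k R := lift (𝟙 T) (toUnit T ≫ p)
  have hsec : ∀ {T T' : Over (Spec (CommRingCat.of k))} (m : T ⟶ T'), m ≫ sec T' = sec T ≫ (m ▷ Sp k R) := by
    intro T T' m
    simp [sec, comp_lift, lift_whiskerRight, ← Category.assoc, comp_toUnit]
  have back : ∀ {X Y : Over (Spec (CommRingCat.of k))} (a' : X ⊗ Sp k R ⟶ Y) (b' : Y ⊗ Sp k R ⟶ X),
      lift a' (snd X (Sp k R)) ≫ b' = fst X (Sp k R) → (sec X ≫ a') ≫ sec Y ≫ b' = 𝟙 X := by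
    intro X Y a' b' hab
    have : sec X ≫ lift a' (snd X (Sp k R)) = (sec X ≫ a') ≫ sec Y := by
      simp [sec, comp_lift, ← Category.assoc, comp_toUnit]
    rw [← Category.assoc (sec X ≫ a'), ← this, Category.assoc, hab, lift_fst]
  let f : G ≅ H :=
    { hom := sec G ≫ Φ
      inv := sec H ≫ Ψ
      hom_inv_id := back Φ Ψ (inv_id e.hom e.inv Φ Ψ hΦ hΨ e.hom_inv_id)
      inv_hom_id := back Ψ Φ (inv_id e.inv e.hom Ψ Φ hΨ hΦ e.inv_hom_id) }
  have hm : μ[G] ≫ f.hom = (f.hom ⊗ₘ f.hom) ≫ μ[H] := by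
    show μ[G] ≫ sec G ≫ Φ = _
    rw [← Category.assoc, hsec, Category.assoc, hmul, MonObj.comp_mul, ← Category.assoc, ← hsec,
      ← Category.assoc, ← hsec, Category.assoc, Category.assoc, Hom.mul_def, ← lift_map_assoc, lift_fst_snd,
      Category.id_comp]
  haveI : IsMonHom f.hom :=
    { mul_hom := hm
      one_hom := by
        have h1 : (1 : 𝟙_ (Over (Spec (CommRingCat.of k))) ⟶ G) = η[G] := by
          rw [Hom.one_def, toUnit_unique (toUnit _) (𝟙 _), Category.id_comp]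
        have h1' : (1 : 𝟙_ (Over (Spec (CommRingCat.of k))) ⟶ H) = η[H] := by
          rw [Hom.one_def, toUnit_unique (toUnit _) (𝟙 _), Category.id_comp]
        have hx : (η[G] ≫ f.hom) * (η[G] ≫ f.hom) = (η[G] ≫ f.hom) * 1 := by
          rw [_root_.mul_one, Hom.mul_def, ← lift_map_assoc, ← hm, ← Category.assoc, ← Hom.mul_def, ← h1,
            _root_.mul_one]
        rw [← h1']
        exact mul_left_cancel hx }
  exact ⟨Grp.mkIso f (one_f := IsMonHom.one_hom f.hom) (mul_f := IsMonHom.mul_hom f.hom)⟩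

end field

/-- Transport of an isomorphism of base changes to a common field. -/
theorem exists_iso_of_square {S S' : Scheme.{u}} {k K : Type u} [Field k] [IsAlgClosed k] [CommRing K] [Algebra k K]
    [Nontrivial K] (c : Spec (CommRingCat.of k) ⟶ S) (c' : Spec (CommRingCat.of K) ⟶ S') (f : S' ⟶ S)
    (hu : Spec.map (CommRingCat.ofHom (algebraMap k K)) ≫ c = c' ≫ f) (G G' : Over S) [GrpObj G] [GrpObj G']
    (hG : IsAffine (Red.bc c G).left) (hG' : IsAffine (Red.bc c G').left) [LocallyOfFiniteType G.hom]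
    [LocallyOfFiniteType G'.hom]
    (ψ : Red.bc f G ≅ Red.bc f G') [IsMonHom ψ.hom] :
    Nonempty (Grp.mk (Red.bc c G) ≅ Grp.mk (Red.bc c G')) := by
  let u := Spec.map (CommRingCat.ofHom (algebraMap k K))
  let e₁ := ActBC.bcCompIso u c G (rfl : u ≫ c = u ≫ c)
  let e₂ := ActBC.bcCompIso c' f G (hu.symm : c' ≫ f = u ≫ c)
  let e₂' := ActBC.bcCompIso c' f G' (hu.symm : c' ≫ f = u ≫ c)
  let e₁' := ActBC.bcCompIso u c G' (rfl : u ≫ c = u ≫ c)
  haveI : IsMonHom ((Over.pullback c').map ψ.hom) := inferInstance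
  let E : Red.bc u (Red.bc c G) ≅ Red.bc u (Red.bc c G') :=
    e₁ ≪≫ e₂.symm ≪≫ (Over.pullback c').mapIso ψ ≪≫ e₂' ≪≫ e₁'.symm
  haveI : IsMonHom E.hom :=
    inferInstanceAs (IsMonHom (e₁.hom ≫ e₂.inv ≫ (Over.pullback c').map ψ.hom ≫ e₂'.hom ≫ e₁'.inv))
  haveI : LocallyOfFiniteType (Red.bc c G).hom := MorphismProperty.pullback_snd G.hom c inferInstance
  haveI : LocallyOfFiniteType (Red.bc c G').hom := MorphismProperty.pullback_snd G'.hom c inferInstance
  exact exists_iso _ _ E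

end Groth.Agent.GrpPtDesc
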